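import Cfsg.Agent.H821.K547.Defs
import Cfsg.Agent.H269.K547.Tool

/-!
# S4547: `D3 (AutExt τ)` from a subgroup of odd index and an invariant homomorphism (helper581)

The case where the powers of `τ` which are inner are given by elements of the kernel: no transfer is needed.
-/

set_option autoImplicit false

namespace Cfsg.Agent.H581.K547.Direct

open Cfsg Cfsg.Agent.H821.K547

universe u v

/-- a subgroup of odd index which maps onto an elementary abelian group of order at least 8 -/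
theorem d3_of_hom {G : Type u} [Group G] [Finite G] {A : Type v} [CommGroup A] [Finite A] (hA : ∀ a : A, a ^ 2 = 1)
    (hc : 8 ≤ Nat.card A) (L : Subgroup G) (hL : ¬ 2 ∣ L.index) (f : L →* A) (hf : Function.Surjective f) : D3 G := by
  have : Fact (Nat.Prime 2) := ⟨Nat.prime_two⟩
  obtain ⟨P⟩ : Nonempty (Sylow 2 L) := inferInstance
  -- the image of `P` is everything
  have h1 : (P : Subgroup L).map f = ⊤ := by
    have h2 : ((P : Subgroup L).map f).index ∣ (P : Subgroup L).index := Subgroup.index_map_dvd _ hf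
    have h3 : ¬ 2 ∣ ((P : Subgroup L).map f).index := fun h => P.not_dvd_index (h.trans h2)
    have h4 : IsPGroup 2 A := fun a => ⟨1, by rw [pow_one]; exact hA a⟩
    obtain ⟨n, hn⟩ := h4.index ((P : Subgroup L).map f)
    rcases Nat.eq_zero_or_pos n with h0 | h0
    · rw [h0, pow_zero] at hn
      exact Subgroup.index_eq_one.1 hn
    · exfalso
      apply h3
      rw [hn]
      exact dvd_pow_self 2 (by omega)
  have h5 : IsPGroup 2 ((P : Subgroup L).map L.subtype) := P.2.map _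
  have h6 : ¬ 2 ∣ ((P : Subgroup L).map L.subtype).index := by
    rw [Subgroup.index_map_subtype]
    intro h
    rcases (Nat.Prime.dvd_mul Nat.prime_two).1 h with h7 | h7
    · exact P.not_dvd_index h7
    · exact hL h7
  obtain ⟨g, hg⟩ := Cfsg.Agent.H269.K547.rk_of_exp hA (n := 3) hc
  intro Q
  let e : Q ≃* (h5.toSylow h6) := Sylow.equiv _ _
  have e2 : (h5.toSylow h6 : Subgroup G) = (P : Subgroup L).map L.subtype := rfl
  let e3 : (P : Subgroup L) ≃* (P : Subgroup L).map L.subtype :=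
    (P : Subgroup L).equivMapOfInjective L.subtype L.subtype_injective
  let e4 : Q ≃* (P : Subgroup L) := e.trans e3.symm
  have hs : Function.Surjective (f.comp (P : Subgroup L).subtype) := by
    intro a
    obtain ⟨x, hx, rfl⟩ : a ∈ (P : Subgroup L).map f := by rw [h1]; exact Subgroup.mem_top _
    exact ⟨⟨x, hx⟩, rfl⟩
  have hs2 : Function.Surjective (g.comp (f.comp (P : Subgroup L).subtype)) := hg.comp hs
  exact ⟨(g.comp (f.comp (P : Subgroup L).subtype)).comp e4.toMonoidHom, hs2.comp e4.surjective⟩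

section ext

variable {S : Type u} [Group S]

theorem autExt_conj_mul (s : S) (τ : MulAut S) : AutExt (MulAut.conj s * τ) = AutExt τ := by
  have key : ∀ (s : S) (τ : MulAut S), AutExt (MulAut.conj s * τ) ≤ AutExt τ := by
    intro s τ
    refine sup_le le_sup_left ?_
    rw [Subgroup.zpowers_le]
    exact mul_mem (Subgroup.mem_sup_left ⟨s, rfl⟩) (Subgroup.mem_sup_right (Subgroup.mem_zpowers τ))
  refine le_antisymm (key s τ) ?_
  have := key s⁻¹ (MulAut.conj s * τ)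
  rwa [map_inv, inv_mul_cancel_left] at this

theorem conj_mul_conj (a : S) (φ : MulAut S) : φ * MulAut.conj a = MulAut.conj (φ a) * φ := by
  ext x
  simp [MulAut.mul_apply, MulAut.conj_apply]

/-- odd powers are not inner -/
theorem even_of_zpow {τ : MulAut S} (hT : TwoPow τ) (hI : ¬ IsInn τ) {n : ℤ} {s : S} (h : τ ^ n = MulAut.conj s) :
    Even n := by
  by_contra hodd
  rw [Int.not_even_iff_odd] at hodd
  obtain ⟨k, t, ht⟩ := hT
  have ht' : τ ^ ((2 : ℤ) ^ k) = MulAut.conj t := by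
    have : ((2 : ℤ) ^ k) = ((2 ^ k : ℕ) : ℤ) := by push_cast; rfl
    rw [this, zpow_natCast]
    ext x
    exact ht x
  have hcop : IsCoprime n ((2 : ℤ) ^ k) := by
    apply IsCoprime.pow_right
    obtain ⟨j, rfl⟩ := hodd
    exact ⟨1, -j, by ring⟩
  obtain ⟨a, b, hab⟩ := hcop
  have hm : τ ∈ (MulAut.conj : S →* MulAut S).range := by
    have h1 : τ ^ n ∈ (MulAut.conj : S →* MulAut S).range := ⟨s, h.symm⟩
    have h2 : τ ^ ((2 : ℤ) ^ k) ∈ (MulAut.conj : S →* MulAut S).range := ⟨t, ht'.symm⟩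
    have h3 := mul_mem (zpow_mem h1 a) (zpow_mem h2 b)
    rwa [← zpow_mul, ← zpow_mul, ← zpow_add, mul_comm n a, mul_comm ((2 : ℤ) ^ k) b, hab, zpow_one] at h3
  obtain ⟨r, hr⟩ := hm
  exact hI ⟨r, fun x => by rw [← hr]; rfl⟩

variable {A : Type v} [CommGroup A] (M : Subgroup S) (f : M →* A) (τ : MulAut S)

/-- the carrier: `conj s * τ ^ n` with `s ∈ M` -/
def Rel (x : MulAut S) (a : A × ℤˣ) : Prop :=
  ∃ (s : S) (h : s ∈ M) (n : ℤ), x = MulAut.conj s * τ ^ n ∧ a = (f ⟨s, h⟩, (-1) ^ n)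

variable {M f τ} [Finite S]

theorem inv_zpow (hτ : ∀ x ∈ M, τ x ∈ M) (hτf : ∀ (x : S) (hx : x ∈ M), f ⟨τ x, hτ x hx⟩ = f ⟨x, hx⟩) (n : ℤ)
    (x : S) (hx : x ∈ M) : ∃ h : (τ ^ n) x ∈ M, f ⟨(τ ^ n) x, h⟩ = f ⟨x, hx⟩ := by
  have hnat : ∀ k : ℕ, ∃ h : (τ ^ k) x ∈ M, f ⟨(τ ^ k) x, h⟩ = f ⟨x, hx⟩ := by
    intro k
    induction k with
    | zero => exact ⟨hx, rfl⟩
    | succ k ih =>
      obtain ⟨h, hf⟩ := ih
      have e : (τ ^ (k + 1)) x = τ ((τ ^ k) x) := by rw [pow_succ']; rfl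
      refine ⟨by rw [e]; exact hτ _ h, ?_⟩
      rw [← hf, ← hτf _ h]
      congr 1
      exact Subtype.ext e
  have hfin : Finite (MulAut S) := inferInstance
  obtain ⟨k, hk⟩ : τ ^ n ∈ Submonoid.powers τ := by
    rw [mem_powers_iff_mem_zpowers]
    exact ⟨n, rfl⟩
  rw [← hk]
  exact hnat k

theorem rel_mul (hτ : ∀ x ∈ M, τ x ∈ M) (hτf : ∀ (x : S) (hx : x ∈ M), f ⟨τ x, hτ x hx⟩ = f ⟨x, hx⟩)
    {x y : MulAut S} {a b : A × ℤˣ} (hx : Rel M f τ x a) (hy : Rel M f τ y b) : Rel M f τ (x * y) (a * b) := by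
  obtain ⟨s, hs, n, rfl, rfl⟩ := hx
  obtain ⟨t, ht, k, rfl, rfl⟩ := hy
  obtain ⟨h1, h2⟩ := inv_zpow hτ hτf n t ht
  refine ⟨s * (τ ^ n) t, M.mul_mem hs h1, n + k, ?_, ?_⟩
  · rw [map_mul, zpow_add, mul_assoc, ← mul_assoc (τ ^ n), conj_mul_conj]
    simp only [mul_assoc]
  · rw [Prod.mk_mul_mk, zpow_add, ← h2, ← map_mul]
    rfl

theorem rel_inv (hτ : ∀ x ∈ M, τ x ∈ M) (hτf : ∀ (x : S) (hx : x ∈ M), f ⟨τ x, hτ x hx⟩ = f ⟨x, hx⟩)
    {x : MulAut S} {a : A × ℤˣ} (hx : Rel M f τ x a) : Rel M f τ x⁻¹ a⁻¹ := by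
  obtain ⟨s, hs, n, rfl, rfl⟩ := hx
  obtain ⟨h1, h2⟩ := inv_zpow hτ hτf (-n) s⁻¹ (M.inv_mem hs)
  refine ⟨(τ ^ (-n)) s⁻¹, h1, -n, ?_, ?_⟩
  · rw [mul_inv_rev, ← conj_mul_conj, zpow_neg, ← map_inv]
  · rw [h2, Prod.inv_mk, zpow_neg, ← map_inv]
    rfl

omit [Finite S] in
/-- uniqueness -/
theorem rel_unique (hT : TwoPow τ) (hI : ¬ IsInn τ)
    (hpow : ∀ (n : ℤ) (s : S), τ ^ n = MulAut.conj s → ∃ h : s ∈ M, f ⟨s, h⟩ = 1)
    {x : MulAut S} {a b : A × ℤˣ} (hx : Rel M f τ x a) (hy : Rel M f τ x b) : a = b := by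
  obtain ⟨s, hs, n, rfl, rfl⟩ := hx
  obtain ⟨t, ht, k, h, rfl⟩ := hy
  have h1 : τ ^ (n - k) = MulAut.conj (s⁻¹ * t) := by
    have h2 : τ ^ n = MulAut.conj s⁻¹ * (MulAut.conj t * τ ^ k) := by rw [← h, map_inv, inv_mul_cancel_left]
    rw [zpow_sub, h2, map_mul]
    simp only [mul_assoc, mul_inv_cancel, mul_one]
  obtain ⟨h3, h4⟩ := hpow _ _ h1
  have h5 := even_of_zpow hT hI h1
  refine Prod.ext ?_ ?_
  · change f ⟨s, hs⟩ = f ⟨t, ht⟩
    have h6 : (⟨s⁻¹ * t, h3⟩ : M) = ⟨s, hs⟩⁻¹ * ⟨t, ht⟩ := rfl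
    rw [h6, map_mul, map_inv] at h4
    exact (inv_mul_eq_one.1 h4)
  · change ((-1 : ℤˣ)) ^ n = (-1) ^ k
    have h6 : ((-1 : ℤˣ)) ^ (n - k) = 1 := h5.neg_one_zpow
    rw [zpow_sub] at h6
    exact mul_inv_eq_one.1 h6

/-- the subgroup `M <τ>` -/
def LL (hτ : ∀ x ∈ M, τ x ∈ M) (hτf : ∀ (x : S) (hx : x ∈ M), f ⟨τ x, hτ x hx⟩ = f ⟨x, hx⟩) :
    Subgroup (MulAut S) where
  carrier := {x | ∃ a, Rel M f τ x a}
  one_mem' := ⟨1, 1, M.one_mem, 0, by simp, by rw [zpow_zero]; exact Prod.ext (map_one f).symm rfl⟩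
  mul_mem' := fun ⟨a, ha⟩ ⟨b, hb⟩ => ⟨a * b, rel_mul hτ hτf ha hb⟩
  inv_mem' := fun ⟨a, ha⟩ => ⟨a⁻¹, rel_inv hτ hτf ha⟩

/-- INV, direct version: the inner powers of `τ` come from the kernel of `f` -/
theorem d3_autExt [Finite A] (hA : ∀ a : A, a ^ 2 = 1) (hc : 4 ≤ Nat.card A)
    (hM : ¬ 2 ∣ M.index) (hf : Function.Surjective f) 
    (hτ : ∀ x ∈ M, τ x ∈ M) (hτf : ∀ (x : S) (hx : x ∈ M), f ⟨τ x, hτ x hx⟩ = f ⟨x, hx⟩)
    (hpow : ∀ (n : ℤ) (s : S), τ ^ n = MulAut.conj s → ∃ h : s ∈ M, f ⟨s, h⟩ = 1)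
    (hT : TwoPow τ) (hI : ¬ IsInn τ) : D3 (AutExt τ) := by
  have hfin : Finite (MulAut S) := inferInstance
  set L := LL hτ hτf with hL
  have memL : ∀ {s : S}, s ∈ M → ∀ n : ℤ, MulAut.conj s * τ ^ n ∈ L := fun {s} hs n => ⟨_, s, hs, n, rfl, rfl⟩
  have hLE : L ≤ AutExt τ := by
    rintro x ⟨a, s, hs, n, rfl, -⟩
    exact mul_mem (Subgroup.mem_sup_left ⟨s, rfl⟩) (Subgroup.mem_sup_right ⟨n, rfl⟩)
  -- the homomorphism
  let F : L →* A × ℤˣ := MonoidHom.mk' (fun x => Classical.choose x.2) (fun x y =>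
    rel_unique hT hI hpow (Classical.choose_spec (x * y).2)
      (rel_mul hτ hτf (Classical.choose_spec x.2) (Classical.choose_spec y.2)))
  have hF : ∀ (x : L) (a : A × ℤˣ), Rel M f τ x.1 a → F x = a := fun x a h =>
    rel_unique hT hI hpow (Classical.choose_spec x.2) h
  have hFs : Function.Surjective F := by
    rintro ⟨a, b⟩
    obtain ⟨⟨s, hs⟩, rfl⟩ := hf a
    rcases Int.units_eq_one_or b with rfl | rfl
    · exact ⟨⟨_, memL hs 0⟩, hF _ _ ⟨s, hs, 0, rfl, rfl⟩⟩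
    · exact ⟨⟨_, memL hs 1⟩, hF _ _ ⟨s, hs, 1, rfl, by rw [zpow_one]⟩⟩
  -- the index
  set I := (MulAut.conj : S →* MulAut S).range with hIdef
  have hIn : I.Normal := by
    constructor
    rintro _ ⟨s, rfl⟩ φ
    exact ⟨φ s, by rw [conj_mul_conj, mul_inv_cancel_right]⟩
  have hsup : I ⊔ L = AutExt τ := by
    refine le_antisymm (sup_le le_sup_left hLE) (sup_le_sup le_rfl ?_)
    rw [Subgroup.zpowers_le]
    have := memL M.one_mem 1
    rwa [map_one, one_mul, zpow_one] at this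
  have hidx : ¬ 2 ∣ L.relIndex (AutExt τ) := by
    -- `|I ⊔ L : L| = |I : I ⊓ L|`
    have h1 : L.relIndex (AutExt τ) = L.relIndex I := by
      rw [← hsup]
      have e1 : (I ⊓ L).relIndex (I ⊔ L) = (I ⊓ L).relIndex I * I.relIndex (I ⊔ L) :=
        (Subgroup.relIndex_mul_relIndex _ _ _ inf_le_left le_sup_left).symm
      have e2 : (I ⊓ L).relIndex (I ⊔ L) = (I ⊓ L).relIndex L * L.relIndex (I ⊔ L) :=
        (Subgroup.relIndex_mul_relIndex _ _ _ inf_le_right le_sup_right).symm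
      rw [Subgroup.relIndex_sup_left, Subgroup.inf_relIndex_left] at e1
      rw [Subgroup.inf_relIndex_right] at e2
      have h0 : I.relIndex L ≠ 0 := Subgroup.index_ne_zero_of_finite
      have e3 : I.relIndex L * L.relIndex (I ⊔ L) = I.relIndex L * L.relIndex I := by
        rw [← e2, e1, mul_comm]
      exact Nat.eq_of_mul_eq_mul_left (Nat.pos_of_ne_zero h0) e3
    rw [h1]
    intro h2
    have h3 : M.map (MulAut.conj : S →* MulAut S) ≤ L := by
      rintro _ ⟨s, hs, rfl⟩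
      have := memL hs 0
      rwa [zpow_zero, mul_one] at this
    have h4 : L.relIndex I ∣ (M.map (MulAut.conj : S →* MulAut S)).relIndex I :=
      Subgroup.relIndex_dvd_of_le_left I h3
    have h5 : (M.map (MulAut.conj : S →* MulAut S)).relIndex I ∣ M.index := by
      rw [hIdef, MonoidHom.range_eq_map, Subgroup.relIndex_map_map, top_sup_eq, Subgroup.relIndex_top_right]
      exact Subgroup.index_dvd_of_le le_sup_left
    exact hM ((h2.trans h4).trans h5)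
  let e : L.subgroupOf (AutExt τ) ≃* L := Subgroup.subgroupOfEquivOfLe hLE
  refine d3_of_hom (A := A × ℤˣ) ?_ ?_ (L.subgroupOf (AutExt τ)) hidx (F.comp e.toMonoidHom)
    (hFs.comp e.surjective)
  · rintro ⟨a, b⟩
    rw [Prod.pow_mk, hA, Int.units_sq]
    rfl
  · have h2 : Nat.card ℤˣ = 2 := by simp
    rw [Nat.card_prod, h2]
    omega

end ext

end Cfsg.Agent.H581.K547.Direct
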