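import Cfsg.Agent.H581.K547.Direct
import Cfsg.Agent.H168.K547.D3

/-!
# S4547: `D3 S` and `τ²` inner give `D3 (AutExt τ)` (helper581)

* `sq_eq_one` : the transfer lemma;
* `d3_of_index_two` : `I` perfect of index two and `D3 I` give `D3 G`;
* `jordan` : the version for `AutExt τ`.
-/

set_option autoImplicit false

namespace Cfsg.Agent.H581.K547.Jordan

open Cfsg Cfsg.Agent.H821.K547 Subgroup.leftTransversals

universe u v w

section transfer

variable {G : Type u} [Group G] {P : Subgroup G} [P.FiniteIndex] {A : Type v} [CommGroup A]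

theorem transfer_comp {B : Type w} [CommGroup B] (μ : P →* A) (k : A →* B) (g : G) :
    MonoidHom.transfer (k.comp μ) g = k (MonoidHom.transfer μ g) := by
  rw [MonoidHom.transfer_def _ default, MonoidHom.transfer_def _ default]
  unfold diff
  rw [map_prod]
  rfl

theorem transfer_restrict (γ : G →* A) (g : G) : MonoidHom.transfer (γ.comp P.subtype) g = γ g ^ P.index := by
  rw [MonoidHom.transfer_def _ (default : P.LeftTransversal)]
  unfold diff
  set T : P.LeftTransversal := default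
  let _ := P.fintypeQuotientOfFiniteIndex
  have h1 : ∀ q : G ⧸ P, (γ.comp P.subtype) ⟨(T.2.leftQuotientEquiv q : G)⁻¹ * (g • T).2.leftQuotientEquiv q,
      QuotientGroup.leftRel_apply.mp <| Quotient.exact' ((T.2.leftQuotientEquiv.symm_apply_apply q).trans
        ((g • T).2.leftQuotientEquiv.symm_apply_apply q).symm)⟩ =
      γ g * ((γ (T.2.leftQuotientEquiv q : G))⁻¹ * γ (T.2.leftQuotientEquiv (g⁻¹ • q) : G)) := by
    intro q
    change γ ((T.2.leftQuotientEquiv q : G)⁻¹ * (g • T).2.leftQuotientEquiv q) = _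
    rw [Subgroup.smul_apply_eq_smul_apply_inv_smul, smul_eq_mul, map_mul, map_mul, map_inv]
    exact mul_left_comm _ _ _
  rw [Finset.prod_congr rfl fun q _ => h1 q, Finset.prod_mul_distrib, Finset.prod_mul_distrib, Finset.prod_const,
    Finset.prod_inv_distrib]
  have h2 : ∏ q : G ⧸ P, γ (T.2.leftQuotientEquiv (g⁻¹ • q) : G) = ∏ q : G ⧸ P, γ (T.2.leftQuotientEquiv q : G) :=
    Equiv.prod_comp (MulAction.toPerm g⁻¹) (fun q => γ (T.2.leftQuotientEquiv q : G))
  rw [h2, inv_mul_cancel, mul_one, Finset.card_univ, Subgroup.index_eq_card, Nat.card_eq_fintype_card]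

/-- **The transfer lemma** -/
theorem sq_eq_one {I : Subgroup G} (hI2 : I.index = 2) (hperf : commutator I = ⊤) (hodd : Odd P.index) (μ : P →* A)
    (h : ∀ x : P, x.1 ∈ I → μ x ^ 2 = 1) (x : P) : μ x ^ 2 = 1 := by
  classical
  have hmem : ∀ a b : G, a * b ∈ I ↔ (a ∈ I ↔ b ∈ I) := fun a b => Subgroup.mul_mem_iff_of_index_two hI2
  by_cases hx : x.1 ∈ I
  · exact h x hx
  have hx2 : x.1 ^ 2 ∈ I := by rw [pow_two, hmem]
  have hc : (μ x ^ 2) * (μ x ^ 2) = 1 := by
    rw [← pow_two, ← map_pow]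
    exact h (x ^ 2) hx2
  let γ : G →* A :=
    { toFun := fun g => if g ∈ I then 1 else μ x ^ 2
      map_one' := if_pos I.one_mem
      map_mul' := fun a b => by
        by_cases ha : a ∈ I <;> by_cases hb : b ∈ I
        · rw [if_pos ha, if_pos hb, if_pos (I.mul_mem ha hb), one_mul]
        · rw [if_pos ha, if_neg hb, if_neg (fun h => hb (((hmem a b).1 h).1 ha)), one_mul]
        · rw [if_neg ha, if_pos hb, if_neg (fun h => ha (((hmem a b).1 h).2 hb)), mul_one]
        · rw [if_neg ha, if_neg hb, if_pos ((hmem a b).2 (iff_of_false ha hb)), hc] }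
  have hγ : (powMonoidHom 2).comp μ = γ.comp P.subtype := by
    ext y
    change μ y ^ 2 = if y.1 ∈ I then 1 else μ x ^ 2
    by_cases hy : y.1 ∈ I
    · rw [if_pos hy, h y hy]
    · rw [if_neg hy]
      have h1 : (y * x⁻¹).1 ∈ I := by
        change y.1 * x.1⁻¹ ∈ I
        rw [hmem]
        exact iff_of_false hy (fun h => hx (by simpa using I.inv_mem h))
      have h2 := h _ h1
      rw [map_mul, map_inv, mul_pow, inv_pow] at h2
      exact mul_inv_eq_one.1 h2
  have h3 : γ x.1 ^ P.index = MonoidHom.transfer μ x.1 ^ 2 := by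
    rw [← transfer_restrict, ← hγ, transfer_comp]
    rfl
  have h4 : MonoidHom.transfer μ (x.1 ^ 2) = 1 := by
    have h5 : (⟨x.1 ^ 2, hx2⟩ : I) ∈ commutator I := by rw [hperf]; exact Subgroup.mem_top _
    have h6 : commutator I ≤ ((MonoidHom.transfer μ).comp I.subtype).ker := Abelianization.commutator_subset_ker _
    have h9 := MonoidHom.mem_ker.1 (h6 h5)
    rw [MonoidHom.comp_apply, Subgroup.subtype_apply] at h9
    exact h9
  have h8 : MonoidHom.transfer μ x.1 ^ 2 = 1 := by rw [← h4, ← MonoidHom.map_pow (MonoidHom.transfer μ)]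
  have h7 : γ x.1 = μ x ^ 2 := if_neg hx
  rw [h7, h8] at h3
  obtain ⟨k, hk⟩ := hodd
  rw [hk, pow_succ (μ x ^ 2), pow_mul (μ x ^ 2), pow_two (μ x ^ 2), hc, one_pow, one_mul] at h3
  exact h3

end transfer

/-- `|I L : L| = |I : I ∩ L|` -/
theorem relIndex_sup {G : Type u} [Group G] [Finite G] (I L : Subgroup G) [I.Normal] :
    L.relIndex (I ⊔ L) = L.relIndex I := by
  have e1 : (I ⊓ L).relIndex (I ⊔ L) = (I ⊓ L).relIndex I * I.relIndex (I ⊔ L) :=
    (Subgroup.relIndex_mul_relIndex _ _ _ inf_le_left le_sup_left).symm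
  have e2 : (I ⊓ L).relIndex (I ⊔ L) = (I ⊓ L).relIndex L * L.relIndex (I ⊔ L) :=
    (Subgroup.relIndex_mul_relIndex _ _ _ inf_le_right le_sup_right).symm
  rw [Subgroup.relIndex_sup_left, Subgroup.inf_relIndex_left] at e1
  rw [Subgroup.inf_relIndex_right] at e2
  have h0 : I.relIndex L ≠ 0 := Subgroup.index_ne_zero_of_finite
  have e3 : I.relIndex L * L.relIndex (I ⊔ L) = I.relIndex L * L.relIndex I := by
    rw [← e2, e1, mul_comm]
  exact Nat.eq_of_mul_eq_mul_left (Nat.pos_of_ne_zero h0) e3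

section extend

variable {P : Type u} [Group P] {Q : Subgroup P} (hQ : Q.index = 2)

include hQ

/-- extension of an invariant homomorphism to a subgroup of index two -/
theorem exists_ext {A : Type v} [CommGroup A] (lam : Q →* A) (t : P) (ht : t ∉ Q) (ζ : A)
    (hζ : ζ ^ 2 = lam ⟨t ^ 2, by rw [pow_two, Subgroup.mul_mem_iff_of_index_two hQ]⟩)
    (hinv : ∀ (x : P) (hx : x ∈ Q) (hx' : t * x * t⁻¹ ∈ Q), lam ⟨t * x * t⁻¹, hx'⟩ = lam ⟨x, hx⟩) :
    ∃ μ : P →* A, (∀ (x : P) (hx : x ∈ Q), μ x = lam ⟨x, hx⟩) ∧ μ t = ζ := by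
  classical
  have hmem : ∀ a b : P, a * b ∈ Q ↔ (a ∈ Q ↔ b ∈ Q) := fun a b => Subgroup.mul_mem_iff_of_index_two hQ
  have hmem' : ∀ a : P, a ∉ Q → a * t⁻¹ ∈ Q := fun a ha => by
    rw [hmem]
    exact iff_of_false ha (fun h => ht (by simpa using Q.inv_mem h))
  have hn : ∀ x : P, x ∈ Q → t * x * t⁻¹ ∈ Q := fun x hx => by
    apply hmem'
    rw [hmem]
    exact fun h => ht (h.2 hx)
  refine ⟨MonoidHom.mk' (fun x => if h : x ∈ Q then lam ⟨x, h⟩ else ζ * lam ⟨x * t⁻¹, hmem' x h⟩) ?_, ?_, ?_⟩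
  · intro a b
    by_cases ha : a ∈ Q <;> by_cases hb : b ∈ Q
    · have hab : a * b ∈ Q := Q.mul_mem ha hb
      simp only [dif_pos ha, dif_pos hb, dif_pos hab]
      rw [← map_mul]
      rfl
    · have hab : a * b ∉ Q := fun h => hb (((hmem a b).1 h).1 ha)
      simp only [dif_pos ha, dif_neg hb, dif_neg hab]
      rw [mul_left_comm, ← map_mul]
      congr 2
      exact Subtype.ext (mul_assoc _ _ _)
    · have hab : a * b ∉ Q := fun h => ha (((hmem a b).1 h).2 hb)
      simp only [dif_neg ha, dif_pos hb, dif_neg hab]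
      rw [mul_assoc ζ, ← hinv b hb (hn b hb), ← map_mul]
      congr 2
      exact Subtype.ext (by change a * b * t⁻¹ = a * t⁻¹ * (t * b * t⁻¹); group)
    · have hab : a * b ∈ Q := (hmem a b).2 (iff_of_false ha hb)
      have ht2 : t ^ 2 ∈ Q := by rw [pow_two, hmem]
      simp only [dif_neg ha, dif_neg hb, dif_pos hab]
      have e : ζ * lam ⟨a * t⁻¹, hmem' a ha⟩ * (ζ * lam ⟨b * t⁻¹, hmem' b hb⟩) =
          lam ⟨a * t⁻¹, hmem' a ha⟩ * lam ⟨b * t⁻¹, hmem' b hb⟩ * ζ ^ 2 := by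
        rw [mul_mul_mul_comm, pow_two, mul_comm]
      rw [e, hζ, ← hinv (b * t⁻¹) (hmem' b hb) (hn _ (hmem' b hb)), ← map_mul, ← map_mul]
      congr 1
      exact Subtype.ext (by change a * b = a * t⁻¹ * (t * (b * t⁻¹) * t⁻¹) * t ^ 2; group)
  · intro x hx
    simp only [MonoidHom.mk'_apply, dif_pos hx]
  · simp only [MonoidHom.mk'_apply, dif_neg ht]
    have h1 : lam ⟨t * t⁻¹, hmem' t ht⟩ = 1 := by
      have : (⟨t * t⁻¹, hmem' t ht⟩ : Q) = 1 := Subtype.ext (mul_inv_cancel t)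
      rw [this, map_one]
    rw [h1, mul_one]

end extend

/-- fixed points of an involution on an elementary abelian 2-group of order at least 8 -/
theorem card_fix {V : Type u} [CommGroup V] [Finite V] (h2 : ∀ v : V, v ^ 2 = 1) (θ : V →* V)
    (hθ : ∀ v, θ (θ v) = v) (h8 : 8 ≤ Nat.card V) : ∃ a b : V, θ a = a ∧ θ b = b ∧ a ≠ 1 ∧ b ≠ 1 ∧ a ≠ b := by
  classical
  let δ : V →* V := MonoidHom.id V * θ
  have hδ : ∀ v, δ v = v * θ v := fun v => rfl
  have hfix : ∀ v, v ∈ δ.ker → θ v = v := fun v hv => by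
    rw [MonoidHom.mem_ker, hδ] at hv
    have h1 := h2 v
    rw [pow_two] at h1
    exact mul_left_cancel (hv.trans h1.symm)
  have hle : δ.range ≤ δ.ker := by
    rintro _ ⟨v, rfl⟩
    rw [MonoidHom.mem_ker, hδ (δ v), hδ v, map_mul, hθ, mul_comm (θ v) v, ← pow_two]
    exact h2 _
  have h3 := δ.ker.card_mul_index
  rw [Subgroup.index_ker] at h3
  have h4 : Nat.card δ.range ≤ Nat.card δ.ker := Nat.card_le_card_of_injective _ (Subgroup.inclusion_injective hle)
  have h5 : 2 < Nat.card δ.ker := by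
    by_contra hcon
    have h6 : Nat.card δ.ker * Nat.card δ.range ≤ 2 * 2 := Nat.mul_le_mul (by omega) (by omega)
    omega
  have : Fintype δ.ker := Fintype.ofFinite _
  rw [Nat.card_eq_fintype_card, ← Finset.card_univ, Finset.two_lt_card] at h5
  obtain ⟨a, -, b, -, c, -, hab, hac, hbc⟩ := h5
  refine ⟨((a⁻¹ * b : δ.ker) : V), ((a⁻¹ * c : δ.ker) : V), hfix _ (a⁻¹ * b).2, hfix _ (a⁻¹ * c).2, ?_, ?_, ?_⟩
  · intro h
    exact hab (inv_mul_eq_one.1 (Subtype.ext h))
  · intro h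
    exact hac (inv_mul_eq_one.1 (Subtype.ext h))
  · intro h
    exact hbc (mul_left_cancel (Subtype.ext h))

/-- the sign of an element of `ZMod 2` -/
def sgn (k : ZMod 2) : ℤˣ := if k = 0 then 1 else -1

theorem sgn_add (a b : ZMod 2) : sgn (a + b) = sgn a * sgn b := by
  revert a b
  decide

theorem sgn_inj {a b : ZMod 2} (h : sgn a = sgn b) : a = b := by
  revert a b
  decide

/-- many homomorphisms to `C_2` -/
theorem card_hom {Q : Type u} [Group Q] [Finite Q] (h : Rk 3 Q) : 8 ≤ Nat.card (Q →* ℤˣ) := by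
  obtain ⟨f, hf⟩ := h
  let χ : (Fin 3 → ZMod 2) → (Q →* ℤˣ) := fun a =>
    MonoidHom.mk' (fun x => sgn (∑ i, a i * Multiplicative.toAdd (f x) i)) fun x y => by
      rw [← sgn_add, ← Finset.sum_add_distrib, map_mul]
      congr 1
      exact Finset.sum_congr rfl fun i _ => mul_add _ _ _
  have hχ : Function.Injective χ := by
    intro a b hab
    funext i
    obtain ⟨x, hx⟩ := hf (Multiplicative.ofAdd (Pi.single i 1))
    have h1 : sgn (∑ j, a j * Multiplicative.toAdd (f x) j) = sgn (∑ j, b j * Multiplicative.toAdd (f x) j) :=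
      DFunLike.congr_fun hab x
    rw [hx] at h1
    have h2 := sgn_inj h1
    simpa [Pi.single_apply] using h2
  have h2 := Nat.card_le_card_of_injective χ hχ
  have h3 : Nat.card (Fin 3 → ZMod 2) = 8 := by
    rw [Nat.card_fun, Nat.card_zmod, Nat.card_fin]
    norm_num
  rwa [h3] at h2

theorem index_ker {P : Type u} [Group P] (μ : P →* ℤˣ) (h : ∃ x, μ x ≠ 1) : μ.ker.index = 2 := by
  rw [Subgroup.index_ker]
  have h1 : μ.range = ⊤ := by
    rw [eq_top_iff]
    intro y _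
    rcases Int.units_eq_one_or y with rfl | rfl
    · exact one_mem _
    · obtain ⟨x, hx⟩ := h
      exact ⟨x, (Int.units_eq_one_or (μ x)).resolve_left hx⟩
  rw [h1, Subgroup.card_top]
  simp

theorem rk_of_homs {P : Type u} [Group P] {Q : Subgroup P} (hQ : Q.index = 2) {t : P} (ht : t ∉ Q) (μ₁ μ₂ : P →* ℤˣ)
    (h1 : ∃ x ∈ Q, μ₁ x ≠ 1) (h2 : ∃ x ∈ Q, μ₂ x ≠ 1) (h12 : ∃ x ∈ Q, μ₁ x ≠ μ₂ x) : Rk 3 P := by
  obtain ⟨y, hy, hy1⟩ := h1
  obtain ⟨z, hz, hz1, hz2⟩ : ∃ z ∈ Q, μ₁ z = 1 ∧ μ₂ z ≠ 1 := by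
    by_contra hcon
    push Not at hcon
    obtain ⟨w, hw, hw1⟩ := h2
    obtain ⟨v, hv, hv1⟩ := h12
    have e : ∀ x : P, μ₁ x ≠ 1 → μ₁ x = -1 := fun x hx => (Int.units_eq_one_or (μ₁ x)).resolve_left hx
    have key : ∀ x ∈ Q, μ₁ x ≠ 1 → μ₂ x = μ₂ y := by
      intro x hx hx1
      have h3 := hcon (x * y⁻¹) (Q.mul_mem hx (Q.inv_mem hy)) (by
        rw [map_mul, map_inv, e x hx1, e y hy1]; decide)
      rw [map_mul, map_inv] at h3
      exact mul_inv_eq_one.1 h3
    have hw2 : μ₁ w ≠ 1 := fun h => hw1 (hcon w hw h)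
    have hy2 : μ₂ y = -1 := by
      rw [← key w hw hw2]
      exact (Int.units_eq_one_or (μ₂ w)).resolve_left hw1
    by_cases hv2 : μ₁ v = 1
    · exact hv1 (by rw [hv2, hcon v hv hv2])
    · exact hv1 (by rw [e v hv2, key v hv hv2, hy2])
  exact H168.K547.rk_three_of Q μ₁.ker μ₂.ker hQ (index_ker μ₁ ⟨y, hy1⟩) (index_ker μ₂ ⟨z, hz2⟩) ht hy
    (fun h => hy1 h) hz hz1 (fun h => hz2 h)

theorem d3_of_index_two {G : Type u} [Group G] [Finite G] {I : Subgroup G} (hI2 : I.index = 2)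
    (hperf : commutator I = ⊤) (hD : D3 I) : D3 G := by
  have : Fact (Nat.Prime 2) := ⟨Nat.prime_two⟩
  intro P
  have hIn : I.Normal := Subgroup.normal_of_index_eq_two hI2
  obtain ⟨t, ht⟩ : ∃ t : (P : Subgroup G), t.1 ∉ I := by
    by_contra hcon
    push Not at hcon
    have h1 : (P : Subgroup G) ≤ I := fun x hx => hcon ⟨x, hx⟩
    have h2 := Subgroup.index_dvd_of_le h1
    rw [hI2] at h2
    exact P.not_dvd_index h2
  have hodd : Odd (P : Subgroup G).index := by
    rw [← Nat.not_even_iff_odd]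
    intro h
    exact P.not_dvd_index h.two_dvd
  set Q : Subgroup (P : Subgroup G) := I.subgroupOf P with hQdef
  have memQ : ∀ x : (P : Subgroup G), x ∈ Q ↔ x.1 ∈ I := fun x => Subgroup.mem_subgroupOf
  have htQ : t ∉ Q := fun h => ht ((memQ t).1 h)
  have hQ : Q.index = 2 := by
    have h1 : Q.index ∣ 2 := (Subgroup.relIndex_dvd_index_of_normal I (P : Subgroup G)).trans (dvd_of_eq hI2)
    rcases (Nat.dvd_prime Nat.prime_two).1 h1 with h2 | h2
    · exfalso
      rw [Subgroup.index_eq_one] at h2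
      exact htQ (h2 ▸ Subgroup.mem_top t)
    · exact h2
  have hQn : Q.Normal := Subgroup.normal_of_index_eq_two hQ
  -- the Sylow subgroup of `I`
  have hP' : IsPGroup 2 ((P : Subgroup G).subgroupOf I) := P.2.comap_subtype
  have hidx : ¬ 2 ∣ ((P : Subgroup G).subgroupOf I).index := by
    intro h
    have h1 : ((P : Subgroup G).subgroupOf I).index = (P : Subgroup G).relIndex (I ⊔ P) := (relIndex_sup I P).symm
    rw [h1] at h
    exact P.not_dvd_index (h.trans (Subgroup.relIndex_dvd_index_of_le le_sup_right))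
  have hrk : Rk 3 ((P : Subgroup G).subgroupOf I) := hD (hP'.toSylow hidx)
  let e : (P : Subgroup G).subgroupOf I ≃* Q :=
    { toFun := fun x => ⟨⟨x.1.1, x.2⟩, x.1.2⟩
      invFun := fun x => ⟨⟨x.1.1, x.2⟩, x.1.2⟩
      left_inv := fun _ => rfl
      right_inv := fun _ => rfl
      map_mul' := fun _ _ => rfl }
  have hrkQ : Rk 3 Q := H168.K547.rk_congr e hrk
  have hfinV : Finite (Q →* ℤˣ) := DFunLike.finite _
  let c : MulAut Q := MulAut.conjNormal t
  let θ : (Q →* ℤˣ) →* (Q →* ℤˣ) := MonoidHom.compHom' c.toMonoidHom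
  have hθ1 : ∀ (v : Q →* ℤˣ) (x : Q), θ v x = v (c x) := fun _ _ => rfl
  have ht2 : t ^ 2 ∈ Q := by rw [pow_two, Subgroup.mul_mem_iff_of_index_two hQ]
  have hθ : ∀ v, θ (θ v) = v := by
    intro v
    ext1 x
    rw [hθ1, hθ1]
    have h1 : c (c x) = ⟨t ^ 2, ht2⟩ * x * ⟨t ^ 2, ht2⟩⁻¹ := by
      apply Subtype.ext
      change t * (t * x.1 * t⁻¹) * t⁻¹ = t ^ 2 * x.1 * (t ^ 2)⁻¹
      rw [pow_two, mul_inv_rev]
      simp only [mul_assoc]
    rw [h1, map_mul, map_mul, map_inv, mul_comm, inv_mul_cancel_left]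
  obtain ⟨a, b, ha, hb, ha1, hb1, hab⟩ := card_fix (fun v => by
    ext1 x
    exact Int.units_sq (v x)) θ hθ (card_hom hrkQ)
  -- extension
  have hext : ∀ v : Q →* ℤˣ, θ v = v → ∃ μ : (P : Subgroup G) →* ℤˣ, ∀ (x : (P : Subgroup G)) (hx : x ∈ Q), μ x = v ⟨x, hx⟩ := by
    intro v hv
    have hinv : ∀ (x : (P : Subgroup G)) (hx : x ∈ Q) (hx' : t * x * t⁻¹ ∈ Q), v ⟨t * x * t⁻¹, hx'⟩ = v ⟨x, hx⟩ := by
      intro x hx hx'
      have h1 : θ v ⟨x, hx⟩ = v ⟨x, hx⟩ := by rw [hv]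
      exact h1
    let j : ℤˣ →* ℂˣ := Units.map (Int.castRingHom ℂ).toMonoidHom
    obtain ⟨ζ, hζ⟩ : ∃ ζ : ℂˣ, ζ ^ 2 = j (v ⟨t ^ 2, ht2⟩) := by
      obtain ⟨z, hz⟩ := IsAlgClosed.exists_pow_nat_eq ((j (v ⟨t ^ 2, ht2⟩) : ℂˣ) : ℂ) (n := 2) (by norm_num)
      have hz0 : z ≠ 0 := by
        rintro rfl
        rw [zero_pow (by norm_num)] at hz
        exact Units.ne_zero _ hz.symm
      exact ⟨Units.mk0 z hz0, Units.ext hz⟩
    obtain ⟨μ, hμ, hμt⟩ := exists_ext hQ (j.comp v) t htQ ζ hζ (fun x hx hx' => congrArg j (hinv x hx hx'))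
    have h1 : ∀ x : (P : Subgroup G), x.1 ∈ I → μ x ^ 2 = 1 := by
      intro x hx
      rw [hμ x ((memQ x).2 hx), MonoidHom.comp_apply, ← map_pow, Int.units_sq, map_one]
    have h2 := sq_eq_one hI2 hperf hodd μ h1 t
    rw [hμt, hζ] at h2
    have h3 : v ⟨t ^ 2, ht2⟩ = 1 := by
      rcases Int.units_eq_one_or (v ⟨t ^ 2, ht2⟩) with h4 | h4
      · exact h4
      · exfalso
        rw [h4] at h2
        have h5 := congrArg Units.val h2
        simp [j] at h5
        norm_num at h5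
    obtain ⟨μ', hμ', -⟩ := exists_ext hQ v t htQ 1 (by rw [one_pow]; exact h3.symm) hinv
    exact ⟨μ', hμ'⟩
  obtain ⟨μ₁, h₁⟩ := hext a ha
  obtain ⟨μ₂, h₂⟩ := hext b hb
  have hne : ∀ {v w : Q →* ℤˣ}, v ≠ w → ∃ x : Q, v x ≠ w x := by
    intro v w hvw
    by_contra hcon
    push Not at hcon
    exact hvw (MonoidHom.ext hcon)
  refine rk_of_homs hQ htQ μ₁ μ₂ ?_ ?_ ?_
  · obtain ⟨x, hx⟩ := hne ha1
    exact ⟨x.1, x.2, by rw [h₁ x.1 x.2]; exact hx⟩
  · obtain ⟨x, hx⟩ := hne hb1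
    exact ⟨x.1, x.2, by rw [h₂ x.1 x.2]; exact hx⟩
  · obtain ⟨x, hx⟩ := hne hab
    exact ⟨x.1, x.2, by rw [h₁ x.1 x.2, h₂ x.1 x.2]; exact hx⟩

theorem not_comm_of_d3 {S : Type u} [Group S] [Finite S] [IsSimpleGroup S] (hD : D3 S) :
    ¬ ∀ a b : S, a * b = b * a := by
  intro h
  have : Fact (Nat.Prime 2) := ⟨Nat.prime_two⟩
  obtain ⟨Q⟩ : Nonempty (Sylow 2 S) := inferInstance
  obtain ⟨f, hf⟩ := hD Q
  have h1 : Nat.card (Multiplicative (Fin 3 → ZMod 2)) ∣ Nat.card Q := Subgroup.card_dvd_of_surjective f hf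
  have h2 : Nat.card Q ∣ Nat.card S := Subgroup.card_subgroup_dvd_card (Q : Subgroup S)
  have h3 : Nat.card (Multiplicative (Fin 3 → ZMod 2)) = 8 := by
    change Nat.card (Fin 3 → ZMod 2) = 8
    rw [Nat.card_fun, Nat.card_zmod, Nat.card_fin]
    norm_num
  rw [h3] at h1
  let _ : CommGroup S := { ‹Group S› with mul_comm := h }
  have h4 : (Nat.card S).Prime := IsSimpleGroup.prime_card
  have h5 := h1.trans h2
  rcases (Nat.dvd_prime h4).1 h5 with h6 | h6
  · omega
  · rw [← h6] at h4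
    exact absurd h4 (by norm_num)

/-- **JORDAN** -/
theorem jordan {S : Type u} [Group S] [Finite S] [IsSimpleGroup S] (hD : D3 S)
    {τ : MulAut S} {s : S} (hs : ∀ x, (τ ^ 2) x = s * x * s⁻¹) (hI : ¬ IsInn τ) : D3 (AutExt τ) := by
  have hna := not_comm_of_d3 hD
  have hfin : Finite (MulAut S) := inferInstance
  set I := (MulAut.conj : S →* MulAut S).range with hIdef
  have hIn : I.Normal := by
    constructor
    rintro _ ⟨s, rfl⟩ φ
    exact ⟨φ s, by rw [Direct.conj_mul_conj, mul_inv_cancel_right]⟩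
  have hτI : τ ∉ I := by
    rintro ⟨r, hr⟩
    exact hI ⟨r, fun x => by rw [← hr]; rfl⟩
  have hτ2 : τ ^ 2 ∈ I := ⟨s, by ext x; exact (hs x).symm⟩
  have hle : I ≤ AutExt τ := le_sup_left
  have hτ : τ ∈ AutExt τ := Subgroup.mem_sup_right (Subgroup.mem_zpowers τ)
  -- elements
  have hel : ∀ x ∈ AutExt τ, x ∈ I ∨ x * τ⁻¹ ∈ I := by
    intro x hx
    obtain ⟨i, hi, y, hy, rfl⟩ := (Subgroup.mem_sup_of_normal_left (hs := hIn)).1 hx
    obtain ⟨n, rfl⟩ := Subgroup.mem_zpowers_iff.1 hy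
    have h2 : ∀ k : ℤ, τ ^ (2 * k) ∈ I := fun k => by
      rw [zpow_mul]
      exact zpow_mem hτ2 k
    rcases Int.even_or_odd' n with ⟨k, rfl | rfl⟩
    · exact Or.inl (mul_mem hi (h2 k))
    · right
      rw [zpow_add_one, mul_assoc, mul_assoc, mul_inv_cancel, mul_one]
      exact mul_mem hi (h2 k)
  have hidx : (I.subgroupOf (AutExt τ)).index = 2 := by
    rw [Subgroup.index_eq_two_iff]
    refine ⟨⟨τ, hτ⟩⁻¹, fun b => ?_⟩
    rw [Subgroup.mem_subgroupOf, Subgroup.mem_subgroupOf]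
    change Xor (b.1 * τ⁻¹ ∈ I) (b.1 ∈ I)
    rcases hel b.1 b.2 with h | h
    · refine Or.inr ⟨h, fun h' => hτI ?_⟩
      have h3 := mul_mem (I.inv_mem h') h
      rwa [mul_inv_rev, inv_inv, inv_mul_cancel_right] at h3
    · refine Or.inl ⟨h, fun h' => hτI ?_⟩
      have h3 := mul_mem (I.inv_mem h) h'
      rwa [mul_inv_rev, inv_inv, inv_mul_cancel_right] at h3
  -- `S ≃ I`
  have hinj : Function.Injective (MulAut.conj : S →* MulAut S) := by
    rw [injective_iff_map_eq_one]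
    intro a ha
    have h1 : a ∈ Subgroup.center S := by
      rw [Subgroup.mem_center_iff]
      intro g
      have h2 : a * g * a⁻¹ = g := DFunLike.congr_fun ha g
      rw [mul_inv_eq_iff_eq_mul] at h2
      exact h2.symm
    rcases (inferInstance : (Subgroup.center S).Normal).eq_bot_or_eq_top with h2 | h2
    · rw [h2] at h1
      exact Subgroup.mem_bot.1 h1
    · exfalso
      apply hna
      intro x y
      have : x ∈ Subgroup.center S := by rw [h2]; exact Subgroup.mem_top _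
      exact (Subgroup.mem_center_iff.1 this y).symm
  let e1 : S ≃* I := MonoidHom.ofInjective hinj
  let e : S ≃* I.subgroupOf (AutExt τ) := e1.trans (Subgroup.subgroupOfEquivOfLe hle).symm
  have hperf : commutator S = ⊤ := by
    rcases (inferInstance : (commutator S).Normal).eq_bot_or_eq_top with h2 | h2
    · exfalso
      apply hna
      intro x y
      rw [commutator_def, Subgroup.commutator_eq_bot_iff_le_centralizer] at h2
      exact (Subgroup.mem_centralizer_iff.1 (h2 (Subgroup.mem_top x)) y (Subgroup.mem_top y)).symm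
    · exact h2
  have hperf' : commutator (I.subgroupOf (AutExt τ)) = ⊤ := by
    have h1 : (commutator S).map e.toMonoidHom = commutator (I.subgroupOf (AutExt τ)) := by
      rw [commutator_def, Subgroup.map_commutator, commutator_def, ← MonoidHom.range_eq_map,
        MonoidHom.range_eq_top.2 e.surjective]
    rw [← h1, hperf, ← MonoidHom.range_eq_map, MonoidHom.range_eq_top.2 e.surjective]
  exact d3_of_index_two hidx hperf' (H168.K547.d3_congr e hD)

end Cfsg.Agent.H581.K547.Jordan
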