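import Cfsg.Agent.H581.K547.SpExt
import Cfsg.Agent.H581.K547.Direct

/-!
# S4547: outer 2-automorphisms of `PSp_{2m}(q)`, `q ≡ 1 mod 4` (helper581, task 5038)
-/

set_option autoImplicit false
set_option linter.unusedSectionVars false

namespace Cfsg.Agent.H581.K547.SpFour

open Cfsg Cfsg.Agent.S0777 Cfsg.Agent.ClassicalGeometry.SympBasic Cfsg.Agent.ClassicalGeometry.SympAutSemi
open Cfsg.Agent.ClassicalGeometry.SympGamma Cfsg.Agent.H821.K547
open Cfsg.Agent.H581.K547.SpMon Cfsg.Agent.H581.K547.SpDiag Cfsg.Agent.H581.K547.SpExt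
open scoped Matrix

universe u

variable {F : Type u} [Field F] {m : ℕ}

theorem ds_mul {g h : Equiv.Perm (Fin m ⊕ Fin m → F)} {σ : F ≃+* F} {l : F} (hs : IsSemi g σ l) (hg : DS g)
    (hh : DS h) : DS (g * h) := by
  intro i
  obtain ⟨c, hc, e⟩ := hh i
  obtain ⟨d, hd, e'⟩ := hg i
  refine ⟨σ c * d, mul_ne_zero (by simpa using hc) hd, ?_⟩
  rw [Equiv.Perm.mul_apply, e, hs.2.1, e', smul_smul]

theorem ds_pow {g : semiSim m F} (hd : DS g.1) (n : ℕ) : DS (g ^ n).1 := by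
  induction n with
  | zero => exact fun i => ⟨1, one_ne_zero, by rw [one_smul]; rfl⟩
  | succ n ih =>
    obtain ⟨σ, l, hl, hs⟩ := (g ^ n).2
    rw [pow_succ]
    exact ds_mul hs ih hd

/-- an inner diagonal semilinear map is given by an element of the torus -/
theorem torus_of_inn (hm : 1 ≤ m) {g : semiSim m F} (hd : DS g.1) {t : PSp m F} (h : Psi m F g = MulAut.conj t) :
    ∃ A ∈ torus m F, QuotientGroup.mk A = t := by
  obtain ⟨A, rfl⟩ := QuotientGroup.mk_surjective t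
  refine ⟨A, ?_, rfl⟩
  have hr : rho m F A ∈ semiSim m F := ⟨RingEquiv.refl F, 1, one_ne_zero, isSemi_rho A⟩
  rw [← H966.PSpAut.Psi_rho A hr] at h
  have h1 : Psi m F (g * (⟨rho m F A, hr⟩ : semiSim m F)⁻¹) = 1 := by
    rw [map_mul, map_inv, h, mul_inv_cancel]
  obtain ⟨a, ha⟩ := exists_scal_of_Psi_eq_one hm _ h1
  have h2 : rho m F A = scal m F a⁻¹ * g.1 := by
    have h3 : g.1 * (rho m F A)⁻¹ = scal m F a := ha
    have h4 : g.1 = scal m F a * rho m F A := by rw [← h3, inv_mul_cancel_right]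
    rw [h4, ← mul_assoc]
    ext1 v
    rw [Equiv.Perm.mul_apply, Equiv.Perm.mul_apply, scal_apply, scal_apply, smul_smul, ← Units.val_mul,
      inv_mul_cancel, Units.val_one, one_smul]
  rw [mem_torus_iff]
  intro i
  obtain ⟨c, hc, e⟩ := hd i
  refine ⟨((a⁻¹ : Fˣ) : F) * c, ?_⟩
  rw [← rho_apply, h2, Equiv.Perm.mul_apply, scal_apply, e, smul_smul]

section hom

variable [Finite F] (hF : 3 < Nat.card F)

theorem fhom_torus {A : Matrix.symplecticGroup (Fin m) F} (hA : A ∈ torus m F) :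
    ∃ h : (QuotientGroup.mk A : PSp m F) ∈ PN m F, fhom hF ⟨QuotientGroup.mk A, h⟩ = 1 := by
  have hN : A ∈ NM m F := Subgroup.le_normalizer hA
  refine ⟨⟨A, hN, rfl⟩, ?_⟩
  have h0 : fhom hF (pr ⟨A, hN⟩) = 1 := by
    rw [fhom_pr]
    set B : NM m F := ⟨A, hN⟩ with hB
    have h1 : ∀ i, pm (dat hF B).1 (dat hF B).2.1 i = i := by
      intro i
      have h2 := monS_mulVec (dat hF B) i
      obtain ⟨c, hc⟩ := ((mem_torus_iff A).1 hA) i
      rw [monS_dat, hc] at h2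
      by_contra hne
      have h3 := congrFun h2 (pm (dat hF B).1 (dat hF B).2.1 i)
      simp [hne] at h3
      exact (Units.ne_zero _) h3.symm
    have h2 : ∀ i, (dat hF B).1 i = i ∧ (dat hF B).2.1 i = false := by
      intro i
      have h3 := h1 (Sum.inl i)
      rcases ha : (dat hF B).2.1 i with _ | _
      · simp only [pm, Sum.elim_inl, ha, Bool.false_eq_true, if_false, Sum.inl.injEq] at h3
        exact ⟨h3, rfl⟩
      · simp [pm, ha] at h3
    have h3 : (dat hF B).1 = 1 := Equiv.ext fun i => (h2 i).1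
    have h4 : sb (dat hF B).2.1 = 1 := Finset.prod_eq_one fun i _ => by rw [(h2 i).2]; rfl
    rw [f0_apply hF (monS_dat hF B), h3, h4, Equiv.Perm.sign_one]
    rfl
  exact h0

end hom

theorem ext_of_four [Fintype F] (hm : 2 ≤ m) (h4 : 4 ∣ Fintype.card F - 1) (s : PSp m F) (l : Fˣ) (σ : F ≃+* F)
    (hT : TwoPow (MulAut.conj s * Psi m F ⟨hp l σ, σ, l, l.ne_zero, hp_ss l σ⟩))
    (hI : ¬ IsInn (MulAut.conj s * Psi m F ⟨hp l σ, σ, l, l.ne_zero, hp_ss l σ⟩)) :
    D3 (AutExt (MulAut.conj s * Psi m F ⟨hp l σ, σ, l, l.ne_zero, hp_ss l σ⟩)) := by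
  have hF : 3 < Nat.card F := by
    have := Fintype.one_lt_card (α := F)
    rw [Nat.card_eq_fintype_card]
    omega
  rw [Direct.autExt_conj_mul]
  set g : semiSim m F := ⟨hp l σ, σ, l, l.ne_zero, hp_ss l σ⟩ with hg
  have hd : DS g.1 := hp_ds l σ
  have hI' : ¬ IsInn (Psi m F g) := by
    rintro ⟨t, ht⟩
    exact hI ⟨s * t, fun x => by
      rw [MulAut.mul_apply, ht, MulAut.conj_apply]; group⟩
  have hT' : TwoPow (Psi m F g) := by
    obtain ⟨k, t, ht⟩ := hT
    obtain ⟨r, hr⟩ := mul_conj_pow s (Psi m F g) (2 ^ k)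
    have h1 : MulAut.conj r * Psi m F g ^ 2 ^ k = MulAut.conj t := by
      rw [← hr]
      ext x
      exact ht x
    refine ⟨k, r⁻¹ * t, fun x => ?_⟩
    have h2 : Psi m F g ^ 2 ^ k = MulAut.conj (r⁻¹ * t) := by
      rw [map_mul, ← h1, map_inv, inv_mul_cancel_left]
    rw [h2]
    rfl
  refine Direct.d3_autExt (A := ℤˣ × ℤˣ) (M := PN m F) (f := fhom hF) ?_ ?_ (not_two_dvd_index h4)
    (fhom_surjective hF hm) (map_PN hd) (fun x hx => fhom_map hF hd ⟨x, hx⟩) ?_ hT' hI'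
  · rintro ⟨a, b⟩
    rw [Prod.pow_mk, Int.units_sq, Int.units_sq]
    rfl
  · have h2 : Nat.card ℤˣ = 2 := by simp
    rw [Nat.card_prod, h2]
  · intro n t ht
    obtain ⟨k, hk⟩ : Psi m F g ^ n ∈ Submonoid.powers (Psi m F g) := by
      rw [mem_powers_iff_mem_zpowers]
      exact ⟨n, rfl⟩
    have hk' : Psi m F g ^ k = Psi m F g ^ n := hk
    rw [← hk', ← map_pow] at ht
    obtain ⟨A, hA, rfl⟩ := torus_of_inn (by omega) (ds_pow hd k) ht
    exact fhom_torus hF hA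

end Cfsg.Agent.H581.K547.SpFour
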