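import Cfsg.Agent.S0270
import Cfsg.Agent.H269.K547.PSp
import Cfsg.Agent.H581.K547.SpFour
import Cfsg.Agent.H581.K547.Jordan

/-!
# S4547, row QO-EXT-PSP: `D3 (AutExt τ)` for `PSp_{2m}(q)`, `q` odd (helper581, task 5038)
-/

set_option autoImplicit false

namespace Cfsg.Agent.H581.K547

open Cfsg Cfsg.Agent.H821.K547 Cfsg.Agent.ClassicalGeometry.SympAutSemi Cfsg.Agent.ClassicalGeometry.SympGamma
open Cfsg.Agent.H581.K547.SpDiag Cfsg.Agent.H581.K547.SpExt

universe u

/-- **Outer 2-automorphisms of `PSp_{2m}(q)`, `q` odd.** -/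
theorem d3_ext_psp {F : Type u} [Field F] [Fintype F] (hF : Odd (Fintype.card F)) {m : ℕ} (hm : 2 ≤ m)
    (τ : MulAut (PSp m F)) (hT : TwoPow τ) (hI : ¬ IsInn τ) : D3 (AutExt τ) := by
  have h2 : (2 : F) ≠ 0 := by
    intro h
    have hdvd : 2 ∣ Fintype.card F := by
      obtain ⟨p, _⟩ := CharP.exists F
      obtain ⟨f, hp, hf⟩ := FiniteField.card F p
      have h3 : ringChar F ∣ 2 := ringChar.dvd (by exact_mod_cast h)
      have h4 : p = ringChar F := (ringChar.eq F p).symm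
      rw [← h4] at h3
      have h5 : p = 2 := (Nat.prime_dvd_prime_iff_eq hp Nat.prime_two).1 h3
      rw [hf, h5]
      exact dvd_pow_self 2 f.pos.ne'
    exact (Nat.not_even_iff_odd.2 hF) (even_iff_two_dvd.2 hdvd)
  obtain ⟨s, l, σ, rfl⟩ := exists_rep hm (Or.inr h2) τ
  by_cases h4 : 4 ∣ Fintype.card F - 1
  · exact SpFour.ext_of_four hm h4 s l σ hT hI
  · have : IsSimpleGroup (PSp m F) := S0270.result m hm (fun _ => by
      have h1 := Fintype.one_lt_card (α := F)
      obtain ⟨k, hk⟩ := hF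
      omega)
    obtain ⟨k, hk⟩ := pow_eq_one_of_twoPow (by omega) hT
    obtain rfl := fld_eq_one hk hF h4
    obtain ⟨t, ht⟩ := sq_inn s l
    exact Jordan.jordan (Cfsg.Agent.H269.K547.d3_psp hF m hm) ht hI

end Cfsg.Agent.H581.K547
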