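import Cfsg.Agent.H581.K547.SpMon
import Cfsg.Agent.H966.PSpAut
import Cfsg.Agent.H198.SympGamma
import Cfsg.Agent.Lib.FieldAutCard

/-!
# S4547: diagonal-field automorphisms of `PSp` and the monomial subgroup (helper581, task 5038)

* `exists_rep` : every automorphism of `PSp m F` is `conj s * Psi h` with `h` semilinear and diagonal;
* `map_PN`, `fhom_map` : `Psi h` stabilises `PN m F` and `fhom`.
-/

set_option autoImplicit false
set_option linter.unusedSectionVars false

namespace Cfsg.Agent.H581.K547.SpDiag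

open Cfsg Cfsg.Agent.S0777 Cfsg.Agent.ClassicalGeometry.SympBasic Cfsg.Agent.ClassicalGeometry.SympAutSemi
open Cfsg.Agent.ClassicalGeometry.SympGamma
open Cfsg.Agent.H581.K547.SpMon
open scoped Matrix

universe u

variable {F : Type u} [Field F] {m : ℕ}

/-- diagonal semilinear maps -/
def DS (h : Equiv.Perm (Fin m ⊕ Fin m → F)) : Prop :=
  ∀ i, ∃ c : F, c ≠ 0 ∧ h (Pi.single i 1) = c • Pi.single i 1

theorem ds_inv {h : Equiv.Perm (Fin m ⊕ Fin m → F)} {σ : F ≃+* F} {l : F} (hs : IsSemi h σ l) (hd : DS h) :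
    DS h⁻¹ := by
  intro i
  obtain ⟨c, hc, e⟩ := hd i
  refine ⟨σ.symm c⁻¹, by simpa using hc, ?_⟩
  apply h.injective
  rw [perm_apply_inv_self, hs.2.1, e, RingEquiv.apply_symm_apply, smul_smul, inv_mul_cancel₀ hc, one_smul]

/-- conjugation by a diagonal semilinear map -/
theorem conj_single {g : semiSim m F} (hd : DS g.1) {A : Matrix.symplecticGroup (Fin m) F} {i j : Fin m ⊕ Fin m}
    {c : F} (h : (A : Matrix (Fin m ⊕ Fin m) (Fin m ⊕ Fin m) F) *ᵥ Pi.single i 1 = c • Pi.single j 1) :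
    ∃ c' : F, (c ≠ 0 → c' ≠ 0) ∧ ((conjHom m F g A : Matrix.symplecticGroup (Fin m) F) :
      Matrix (Fin m ⊕ Fin m) (Fin m ⊕ Fin m) F) *ᵥ Pi.single i 1 = c' • Pi.single j 1 := by
  obtain ⟨σ, l, hl, hs⟩ := g.2
  obtain ⟨a, ha, e1⟩ := ds_inv hs hd i
  obtain ⟨b, hb, e2⟩ := hd j
  refine ⟨σ (a * c) * b, fun hc => mul_ne_zero (by simp [ha, hc]) hb, ?_⟩
  rw [← rho_apply, rho_conjHom, Equiv.Perm.mul_apply, Equiv.Perm.mul_apply, e1, rho_apply, Matrix.mulVec_smul, h,
    smul_smul, hs.2.1, e2, smul_smul]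

theorem torus_conj {g : semiSim m F} (hd : DS g.1) {A : Matrix.symplecticGroup (Fin m) F} (hA : A ∈ torus m F) :
    conjHom m F g A ∈ torus m F := by
  rw [mem_torus_iff] at hA ⊢
  intro i
  obtain ⟨c, hc⟩ := hA i
  obtain ⟨c', -, e⟩ := conj_single hd hc
  exact ⟨c', e⟩

theorem ds_inv' {g : semiSim m F} (hd : DS g.1) : DS (g⁻¹ : semiSim m F).1 := by
  obtain ⟨σ, l, hl, hs⟩ := g.2
  exact ds_inv hs hd

theorem torus_conj_iff {g : semiSim m F} (hd : DS g.1) {A : Matrix.symplecticGroup (Fin m) F} :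
    conjHom m F g A ∈ torus m F ↔ A ∈ torus m F := by
  refine ⟨fun h => ?_, torus_conj hd⟩
  have h1 := torus_conj (ds_inv' hd) h
  have h2 : conjHom m F g⁻¹ (conjHom m F g A) = A := by
    rw [← MulAut.mul_apply, ← map_mul, inv_mul_cancel, map_one]
    rfl
  rwa [h2] at h1

theorem NM_conj {g : semiSim m F} (hd : DS g.1) {A : Matrix.symplecticGroup (Fin m) F} (hA : A ∈ NM m F) :
    conjHom m F g A ∈ NM m F := by
  unfold NM at hA ⊢
  rw [Subgroup.mem_normalizer_iff] at hA ⊢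
  intro t
  obtain ⟨t, rfl⟩ := (conjHom m F g).surjective t
  rw [← map_inv, ← map_mul, ← map_mul]
  have h1 := hA t
  constructor
  · intro h
    exact (torus_conj_iff hd).2 (h1.1 ((torus_conj_iff hd).1 h))
  · intro h
    exact (torus_conj_iff hd).2 (h1.2 ((torus_conj_iff hd).1 h))

section hom

variable [Finite F] (hF : 3 < Nat.card F)

theorem f0_conj {g : semiSim m F} (hd : DS g.1) (A : NM m F) :
    f0 hF ⟨conjHom m F g A.1, NM_conj hd A.2⟩ = f0 hF A := by
  set B : NM m F := ⟨conjHom m F g A.1, NM_conj hd A.2⟩ with hB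
  have h1 : ∀ i, pm (dat hF B).1 (dat hF B).2.1 i = pm (dat hF A).1 (dat hF A).2.1 i := by
    intro i
    have h2 := monS_mulVec (dat hF A) i
    rw [monS_dat] at h2
    obtain ⟨c', hc', e⟩ := conj_single hd h2
    have h3 := monS_mulVec (dat hF B) i
    rw [monS_dat] at h3
    have h4 := h3.symm.trans e
    exact (smul_single_eq (d := Units.mk0 c' (hc' (Units.ne_zero _))) h4).1
  have h2 : ∀ i, (dat hF B).1 i = (dat hF A).1 i ∧ (dat hF B).2.1 i = (dat hF A).2.1 i := by
    intro i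
    have h3 := h1 (Sum.inl i)
    rcases ha : (dat hF A).2.1 i with _ | _ <;> rcases hb : (dat hF B).2.1 i with _ | _ <;>
      simp only [pm, Sum.elim_inl, ha, hb, Bool.false_eq_true, if_false, if_true, Sum.inl.injEq, Sum.inr.injEq,
        reduceCtorEq] at h3
    · exact ⟨h3, rfl⟩
    · exact ⟨h3, rfl⟩
  rw [f0_apply hF (monS_dat hF B), f0_apply hF (monS_dat hF A), show (dat hF B).1 = (dat hF A).1 from
    Equiv.ext fun i => (h2 i).1, show (dat hF B).2.1 = (dat hF A).2.1 from funext fun i => (h2 i).2]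

theorem map_PN {g : semiSim m F} (hd : DS g.1) : ∀ x ∈ PN m F, Psi m F g x ∈ PN m F := by
  rintro _ ⟨A, hA, rfl⟩
  exact ⟨conjHom m F g A, NM_conj hd hA, rfl⟩

theorem fhom_map {g : semiSim m F} (hd : DS g.1) (x : PN m F) :
    fhom hF ⟨Psi m F g x.1, map_PN hd x.1 x.2⟩ = fhom hF x := by
  obtain ⟨A, rfl⟩ := pr_surjective x
  rw [fhom_pr, ← f0_conj hF hd A, ← fhom_pr]
  rfl

end hom

/-! ### Representatives -/

/-- the diagonal semilinear map -/
def hp (l : Fˣ) (σ : F ≃+* F) : Equiv.Perm (Fin m ⊕ Fin m → F) where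
  toFun v := Sum.elim (fun i => (l : F) * σ (v (Sum.inl i))) (fun i => σ (v (Sum.inr i)))
  invFun v := Sum.elim (fun i => σ.symm ((l⁻¹ : Fˣ) * v (Sum.inl i))) (fun i => σ.symm (v (Sum.inr i)))
  left_inv v := by
    funext j
    rcases j with j | j
    · simp
    · simp
  right_inv v := by
    funext j
    rcases j with j | j
    · simp
    · simp

theorem hp_ss (l : Fˣ) (σ : F ≃+* F) : IsSemi (hp (m := m) l σ) σ l := by
  refine ⟨fun u v => ?_, fun a v => ?_, fun u v => ?_⟩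
  · funext j
    rcases j with j | j
    · change (l : F) * σ (u (Sum.inl j) + v (Sum.inl j)) = l * σ (u (Sum.inl j)) + l * σ (v (Sum.inl j))
      rw [map_add, mul_add]
    · exact map_add σ _ _
  · funext j
    rcases j with j | j
    · change (l : F) * σ (a * v (Sum.inl j)) = σ a * (l * σ (v (Sum.inl j)))
      rw [map_mul]; ring
    · exact map_mul σ _ _
  · rw [sympForm_eq_sum, sympForm_eq_sum, map_sum, Finset.mul_sum]
    refine Finset.sum_congr rfl fun i _ => ?_
    change σ (u (Sum.inr i)) * ((l : F) * σ (v (Sum.inl i))) - (l : F) * σ (u (Sum.inl i)) * σ (v (Sum.inr i)) = _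
    rw [map_sub, map_mul, map_mul]
    ring

theorem hp_ds (l : Fˣ) (σ : F ≃+* F) : DS (hp (m := m) l σ) := by
  intro i
  rcases i with i | i
  · refine ⟨l, l.ne_zero, ?_⟩
    funext j
    rcases j with j | j
    · change (l : F) * σ (Pi.single (M := fun _ => F) (Sum.inl i) 1 (Sum.inl j)) = l * Pi.single (M := fun _ => F) (Sum.inl i) 1 (Sum.inl j)
      by_cases h : j = i
      · subst h; simp
      · have h' : (Sum.inl j : Fin m ⊕ Fin m) ≠ Sum.inl i := fun e => h (Sum.inl.inj e)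
        rw [Pi.single_eq_of_ne h', map_zero]
    · change σ (Pi.single (M := fun _ => F) (Sum.inl i) 1 (Sum.inr j)) = l * Pi.single (M := fun _ => F) (Sum.inl i) 1 (Sum.inr j)
      rw [Pi.single_eq_of_ne Sum.inr_ne_inl, map_zero, mul_zero]
  · refine ⟨1, one_ne_zero, ?_⟩
    rw [one_smul]
    funext j
    rcases j with j | j
    · change (l : F) * σ (Pi.single (M := fun _ => F) (Sum.inr i) 1 (Sum.inl j)) = Pi.single (M := fun _ => F) (Sum.inr i) 1 (Sum.inl j)
      rw [Pi.single_eq_of_ne Sum.inl_ne_inr, map_zero, mul_zero]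
    · change σ (Pi.single (M := fun _ => F) (Sum.inr i) 1 (Sum.inr j)) = Pi.single (M := fun _ => F) (Sum.inr i) 1 (Sum.inr j)
      by_cases h : j = i
      · subst h; simp
      · have h' : (Sum.inr j : Fin m ⊕ Fin m) ≠ Sum.inr i := fun e => h (Sum.inr.inj e)
        rw [Pi.single_eq_of_ne h', map_zero]

/-- **Every automorphism is inner times diagonal-field.** -/
theorem exists_rep [Finite F] (hm : 2 ≤ m) (h : 3 ≤ m ∨ (2 : F) ≠ 0) (τ : MulAut (PSp m F)) :
    ∃ (s : PSp m F) (l : Fˣ) (σ : F ≃+* F),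
      τ = MulAut.conj s * Psi m F ⟨hp l σ, σ, l, l.ne_zero, hp_ss l σ⟩ := by
  obtain ⟨⟨g, σ, l, hl, hs⟩, rfl⟩ := ClassicalGeometry.SympAutExists.exists_semi hm τ
    (ClassicalGeometry.SympAutOddA.recog hm h τ)
  set k : semiSim m F := ⟨hp (Units.mk0 l hl) σ, σ, Units.mk0 l hl, (Units.mk0 l hl).ne_zero, hp_ss _ σ⟩ with hk
  have h1 := hs.mul ((hp_ss (m := m) (Units.mk0 l hl) σ).inv (Units.ne_zero _))
  obtain ⟨A, hA⟩ := exists_rho_eq (g * (hp (Units.mk0 l hl) σ)⁻¹) h1.1 (fun a v => by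
      rw [h1.2.1]
      congr 1
      change σ (σ.symm a) = a
      exact σ.apply_symm_apply a) (fun u v => by
      rw [h1.2.2, RingEquiv.apply_symm_apply]
      change l * ((Units.mk0 l hl : Fˣ) : F)⁻¹ * σ (σ.symm (sympForm m F u v)) = _
      rw [RingEquiv.apply_symm_apply, Units.val_mk0, mul_inv_cancel₀ hl, one_mul])
  have hr : rho m F A ∈ semiSim m F := ⟨RingEquiv.refl F, 1, one_ne_zero, isSemi_rho A⟩
  refine ⟨QuotientGroup.mk A, Units.mk0 l hl, σ, ?_⟩
  rw [← H966.PSpAut.Psi_rho A hr, ← map_mul]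
  congr 1
  apply Subtype.ext
  change g = rho m F A * hp (Units.mk0 l hl) σ
  rw [hA, inv_mul_cancel_right]

end Cfsg.Agent.H581.K547.SpDiag
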