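import Cfsg.Agent.H581.K547.SpDiag

/-!
# S4547: outer 2-automorphisms of `PSp_{2m}(q)`, `q` odd (helper581, task 5038)
-/

set_option autoImplicit false
set_option linter.unusedSectionVars false

namespace Cfsg.Agent.H581.K547.SpExt

open Cfsg Cfsg.Agent.S0777 Cfsg.Agent.ClassicalGeometry.SympBasic Cfsg.Agent.ClassicalGeometry.SympAutSemi
open Cfsg.Agent.ClassicalGeometry.SympGamma Cfsg.Agent.H821.K547
open Cfsg.Agent.H581.K547.SpMon Cfsg.Agent.H581.K547.SpDiag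
open scoped Matrix

universe u

section gen

variable {S : Type u} [Group S]

theorem mul_conj_pow (s : S) (φ : MulAut S) (n : ℕ) : ∃ t : S, (MulAut.conj s * φ) ^ n = MulAut.conj t * φ ^ n := by
  induction n with
  | zero => exact ⟨1, by simp⟩
  | succ n ih =>
    obtain ⟨t, ht⟩ := ih
    refine ⟨t * (φ ^ n) s, ?_⟩
    ext x
    rw [pow_succ, ht, pow_succ]
    simp only [MulAut.mul_apply, MulAut.conj_apply, map_mul, map_inv, mul_inv_rev, mul_assoc]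

end gen

variable {F : Type u} [Field F] {m : ℕ}

theorem isSemi_pow {g : semiSim m F} {σ : F ≃+* F} {c : F} (hc : c ≠ 0) (hs : IsSemi g.1 σ c) (n : ℕ) :
    ∃ d : F, d ≠ 0 ∧ IsSemi (g ^ n).1 (σ ^ n) d := by
  induction n with
  | zero => exact ⟨1, one_ne_zero, fun _ _ => rfl, fun _ _ => rfl, fun _ _ => by rw [one_mul]; rfl⟩
  | succ n ih =>
    obtain ⟨d, hd, h⟩ := ih
    have h1 := h.mul hs
    refine ⟨d * (σ ^ n) c, mul_ne_zero hd ((map_ne_zero_iff (σ ^ n) (σ ^ n).injective).2 hc), ?_⟩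
    rw [pow_succ, pow_succ]
    exact h1

/-- a semilinear map which induces an inner automorphism is linear -/
theorem fld_of_inn (hm : 1 ≤ m) {g : semiSim m F} {σ : F ≃+* F} {c : F} (hs : IsSemi g.1 σ c) {t : PSp m F}
    (h : Psi m F g = MulAut.conj t) : σ = 1 := by
  obtain ⟨A, rfl⟩ := QuotientGroup.mk_surjective t
  have hr : rho m F A ∈ semiSim m F := ⟨RingEquiv.refl F, 1, one_ne_zero, isSemi_rho A⟩
  rw [← H966.PSpAut.Psi_rho A hr] at h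
  have h1 : Psi m F (g * (⟨rho m F A, hr⟩ : semiSim m F)⁻¹) = 1 := by
    rw [map_mul, map_inv, h, mul_inv_cancel]
  obtain ⟨a, ha⟩ := exists_scal_of_Psi_eq_one hm _ h1
  have h2 : g.1 = scal m F a * rho m F A := by
    have h3 : g.1 * (rho m F A)⁻¹ = scal m F a := ha
    rw [← h3, inv_mul_cancel_right]
  have i : Fin m := ⟨0, by omega⟩
  ext x
  have h3 := hs.2.1 x (Pi.single (Sum.inl i) 1)
  have h4 : g.1 (x • Pi.single (Sum.inl i) 1) = x • g.1 (Pi.single (Sum.inl i) 1) := by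
    rw [h2, Equiv.Perm.mul_apply, Equiv.Perm.mul_apply, rho_apply, Matrix.mulVec_smul, scal_apply, scal_apply,
      rho_apply, smul_comm]
  rw [h4] at h3
  have h5 : (x - σ x) • g.1 (Pi.single (Sum.inl i) 1) = 0 := by rw [sub_smul, h3, sub_self]
  rcases smul_eq_zero.1 h5 with h6 | h6
  · exact (sub_eq_zero.1 h6).symm
  · exfalso
    have h0 : g.1 0 = 0 := by
      have := hs.2.1 (0 : F) (0 : Fin m ⊕ Fin m → F)
      rwa [zero_smul, RingEquiv.map_zero σ, zero_smul] at this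
    rw [← h0] at h6
    have h7 := congrFun (g.1.injective h6) (Sum.inl i)
    rw [Pi.single_eq_same] at h7
    exact one_ne_zero h7

theorem pow_eq_one_of_twoPow (hm : 1 ≤ m) {s : PSp m F} {l : Fˣ} {σ : F ≃+* F}
    (h : TwoPow (MulAut.conj s * Psi m F ⟨hp l σ, σ, l, l.ne_zero, hp_ss l σ⟩)) : ∃ k : ℕ, σ ^ 2 ^ k = 1 := by
  obtain ⟨k, t, ht⟩ := h
  refine ⟨k, ?_⟩
  obtain ⟨r, hr⟩ := mul_conj_pow s (Psi m F ⟨hp l σ, σ, l, l.ne_zero, hp_ss l σ⟩) (2 ^ k)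
  rw [← map_pow] at hr
  obtain ⟨d, -, hd⟩ := isSemi_pow (g := ⟨hp l σ, σ, l, l.ne_zero, hp_ss l σ⟩) l.ne_zero (hp_ss (m := m) l σ) (2 ^ k)
  refine fld_of_inn hm hd (t := r⁻¹ * t) ?_
  have h1 : MulAut.conj r * Psi m F (⟨hp l σ, σ, l, l.ne_zero, hp_ss l σ⟩ ^ 2 ^ k) = MulAut.conj t := by
    rw [← hr]
    ext x
    exact ht x
  rw [map_mul, ← h1, map_inv, inv_mul_cancel_left]

theorem sq_inn (s : PSp m F) (l : Fˣ) :
    ∃ t : PSp m F, ∀ x, ((MulAut.conj s * Psi m F ⟨hp l 1, 1, l, l.ne_zero, hp_ss l 1⟩) ^ 2) x = t * x * t⁻¹ := by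
  obtain ⟨r, hr⟩ := mul_conj_pow s (Psi m F ⟨hp l 1, 1, l, l.ne_zero, hp_ss l 1⟩) 2
  have h2 : IsSemi (hp (m := m) l 1 * hp l 1) (1 : F ≃+* F) ((l : F) * l) := (hp_ss (m := m) l 1).mul (hp_ss l 1)
  have h3 := (isSemi_scal (m := m) l⁻¹).mul h2
  obtain ⟨A, hA⟩ := exists_rho_eq (scal m F l⁻¹ * (hp (m := m) l 1 * hp l 1)) h3.1 h3.2.1 (by
    intro u v
    rw [h3.2.2]
    have : ((((l⁻¹ : Fˣ) : F) * ((l⁻¹ : Fˣ) : F)) * (RingEquiv.refl F) ((l : F) * l)) = 1 := by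
      change (((l⁻¹ : Fˣ) : F) * ((l⁻¹ : Fˣ) : F)) * ((l : F) * l) = 1
      rw [Units.val_inv_eq_inv_val]
      have := l.ne_zero
      field_simp
    rw [this, one_mul]
    rfl)
  have hs : scal m F l ∈ semiSim m F :=
    ⟨RingEquiv.refl F, _, mul_ne_zero (Units.ne_zero _) (Units.ne_zero _), isSemi_scal _⟩
  have hrA : rho m F A ∈ semiSim m F := ⟨RingEquiv.refl F, 1, one_ne_zero, isSemi_rho A⟩
  have h4 : (⟨hp l 1, 1, l, l.ne_zero, hp_ss l 1⟩ : semiSim m F) ^ 2 = ⟨scal m F l, hs⟩ * ⟨rho m F A, hrA⟩ := by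
    apply Subtype.ext
    change (hp l 1) ^ 2 = scal m F l * rho m F A
    rw [hA, ← mul_assoc, pow_two]
    ext1 v
    rw [Equiv.Perm.mul_apply, Equiv.Perm.mul_apply, Equiv.Perm.mul_apply, scal_apply, scal_apply, smul_smul,
      ← Units.val_mul, mul_inv_cancel, Units.val_one, one_smul]
    rfl
  refine ⟨r * QuotientGroup.mk A, fun x => ?_⟩
  rw [hr, ← map_pow, h4, map_mul, Psi_scal, one_mul, H966.PSpAut.Psi_rho, ← map_mul]
  rfl

theorem odd_of_not_four {p f q : ℕ} (hq : q = p ^ f) (hodd : Odd q) (h4 : ¬ 4 ∣ q - 1) : Odd f := by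
  by_contra hcon
  rw [Nat.not_odd_iff_even] at hcon
  obtain ⟨k, rfl⟩ := hcon
  apply h4
  have h1 : q = p ^ k * p ^ k := by rw [hq, pow_add]
  have h2 : Odd (p ^ k) := by
    rw [h1] at hodd
    exact (Nat.odd_mul.1 hodd).1
  obtain ⟨j, hj⟩ := h2
  rw [h1, hj]
  exact ⟨j * j + j, by ring_nf; omega⟩

theorem fld_eq_one [Fintype F] {k : ℕ} {σ : F ≃+* F} (hσ : σ ^ 2 ^ k = 1) (hodd : Odd (Fintype.card F))
    (h4 : ¬ 4 ∣ Fintype.card F - 1) : σ = 1 := by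
  obtain ⟨p, _⟩ := CharP.exists F
  obtain ⟨f, hp, hf⟩ := FiniteField.card F p
  have : Fact p.Prime := ⟨hp⟩
  have hf' : Nat.card (F ≃+* F) = f := Lib.FieldAutCard.card_ringAut f.pos hf
  have h1 : orderOf σ ∣ f := by rw [← hf']; exact orderOf_dvd_natCard σ
  have h2 : orderOf σ ∣ 2 ^ k := orderOf_dvd_of_pow_eq_one hσ
  have h3 : Nat.Coprime (f : ℕ) (2 ^ k) := (Nat.coprime_two_right.2 (odd_of_not_four hf hodd h4)).pow_right k
  have h5 : orderOf σ ∣ Nat.gcd f (2 ^ k) := Nat.dvd_gcd h1 h2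
  rw [h3] at h5
  exact orderOf_eq_one_iff.1 (Nat.dvd_one.1 h5)

end Cfsg.Agent.H581.K547.SpExt
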