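import Cfsg.Agent.S0777
import Cfsg.Agent.S0245
import Cfsg.Agent.LieClassical.SympCenter
import Cfsg.Agent.H821.K547.Defs

/-!
# S4547: the monomial subgroup of `PSp` and two homomorphisms to `C_2` (helper581, task 5038)

* `NM m F` : the monomial subgroup of `Sp`, `PN m F` : its image in `PSp`;
* `not_two_dvd_index` : odd index if `4 ∣ q - 1`;
* `fhom` : the homomorphism `PN m F →* ℤˣ × ℤˣ`, `fhom_surjective`.
-/

set_option autoImplicit false
set_option linter.unusedSectionVars false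

namespace Cfsg.Agent.H581.K547.SpMon

open Cfsg Cfsg.Agent.S0777 Cfsg.Agent.ClassicalGeometry.SympBasic
open scoped Matrix

universe u

variable {F : Type u} [Field F] {m : ℕ}

/-- the monomial subgroup of `Sp` -/
def NM (m : ℕ) (F : Type u) [Field F] : Subgroup (Matrix.symplecticGroup (Fin m) F) :=
  Subgroup.normalizer (torus m F : Set (Matrix.symplecticGroup (Fin m) F))

/-- the data of a monomial matrix -/
abbrev Dt (m : ℕ) (F : Type u) [Field F] := Equiv.Perm (Fin m) × (Fin m → Bool) × (Fin m → Fˣ)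

theorem pm_comp {x y z : Dt m F} (h : (monS z : Matrix.symplecticGroup (Fin m) F) = monS x * monS y)
    (i : Fin m ⊕ Fin m) : pm z.1 z.2.1 i = pm x.1 x.2.1 (pm y.1 y.2.1 i) := by
  have h1 := monS_mulVec z i
  rw [h, coe_mul_mulVec, monS_mulVec, Matrix.mulVec_smul, monS_mulVec, smul_smul, ← Units.val_mul] at h1
  exact (smul_single_eq h1).1.symm

theorem fst_mul {x y z : Dt m F} (h : (monS z : Matrix.symplecticGroup (Fin m) F) = monS x * monS y) :
    z.1 = x.1 * y.1 ∧ ∀ i, z.2.1 i = xor (y.2.1 i) (x.2.1 (y.1 i)) := by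
  have key : ∀ i, z.1 i = x.1 (y.1 i) ∧ z.2.1 i = xor (y.2.1 i) (x.2.1 (y.1 i)) := by
    intro i
    have h1 := pm_comp h (Sum.inl i)
    rcases ha : z.2.1 i with _ | _ <;> rcases hb : y.2.1 i with _ | _ <;> rcases hc : x.2.1 (y.1 i) with _ | _ <;>
      simp_all [pm]
  exact ⟨Equiv.ext fun i => (key i).1, fun i => (key i).2⟩

/-- the sign of a sign vector -/
def sb (ε : Fin m → Bool) : ℤˣ := ∏ i, if ε i then -1 else 1

theorem sb_mul {x y z : Dt m F} (h : (monS z : Matrix.symplecticGroup (Fin m) F) = monS x * monS y) :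
    sb z.2.1 = sb x.2.1 * sb y.2.1 := by
  obtain ⟨-, h2⟩ := fst_mul h
  have h3 : sb x.2.1 = ∏ i, if x.2.1 (y.1 i) then (-1 : ℤˣ) else 1 := by
    unfold sb
    exact (Equiv.prod_comp y.1 (fun i => if x.2.1 i then (-1 : ℤˣ) else 1)).symm
  rw [h3]
  unfold sb
  rw [← Finset.prod_mul_distrib]
  refine Finset.prod_congr rfl fun i _ => ?_
  rw [h2 i]
  cases y.2.1 i <;> cases x.2.1 (y.1 i) <;> rfl

section hom

variable [Finite F] (hF : 3 < Nat.card F)

/-- the data of an element of `NM` -/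
noncomputable def dat (A : NM m F) : Dt m F := Classical.choose (exists_monS hF A.2)

theorem monS_dat (A : NM m F) : monS (dat hF A) = A.1 := Classical.choose_spec (exists_monS hF A.2)

theorem monS_dat_mul (A B : NM m F) : monS (dat hF (A * B)) = monS (dat hF A) * monS (dat hF B) := by
  rw [monS_dat, monS_dat, monS_dat]
  rfl

/-- the homomorphism on the monomial subgroup of `Sp` -/
noncomputable def f0 : NM m F →* ℤˣ × ℤˣ :=
  MonoidHom.mk' (fun A => (Equiv.Perm.sign (dat hF A).1, sb (dat hF A).2.1)) fun A B => by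
    have h := monS_dat_mul hF A B
    refine Prod.ext ?_ ?_
    · change Equiv.Perm.sign _ = Equiv.Perm.sign _ * Equiv.Perm.sign _
      rw [(fst_mul h).1, Equiv.Perm.sign_mul]
    · exact sb_mul h

theorem f0_apply {A : NM m F} {x : Dt m F} (h : monS x = A.1) : f0 hF A = (Equiv.Perm.sign x.1, sb x.2.1) := by
  have h1 : dat hF A = x := monS_injective (by rw [monS_dat, h])
  change (Equiv.Perm.sign (dat hF A).1, sb (dat hF A).2.1) = _
  rw [h1]

theorem card_NM [Fintype F] (h4 : 4 ≤ Fintype.card F) :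
    Nat.card (NM m F) = 2 ^ m * Nat.factorial m * (Fintype.card F - 1) ^ m := by
  have h0 : (⨅ i : Fin m ⊕ Fin m, Cfsg.stabilizing (Cfsg.spToMat m F) ((Submodule.span F
      {(Pi.single i (1 : F) : Fin m ⊕ Fin m → F)} : Submodule F (Fin m ⊕ Fin m → F)) :
      Set (Fin m ⊕ Fin m → F)) : Set (Matrix.symplecticGroup (Fin m) F)) =
      (torus m F : Set (Matrix.symplecticGroup (Fin m) F)) := by
    rw [torus, Subgroup.coe_iInf]
    rfl
  rw [NM, ← h0]
  exact S0777.result rfl h4 m

end hom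

/-! ### The index -/

theorem padic_factor {q : ℕ} (hq : 1 < q) (h4 : 4 ∣ q - 1) (i : ℕ) :
    padicValNat 2 (q ^ (2 * (i + 1)) - 1) = padicValNat 2 (q - 1) + 1 + padicValNat 2 (i + 1) := by
  have hodd : ¬ 2 ∣ q := by omega
  have h1 := padicValNat.pow_two_sub_one (x := q) (n := 2 * (i + 1)) hq hodd (by omega) (even_two_mul _)
  have h2 : padicValNat 2 (q + 1) = 1 := by
    obtain ⟨k, hk⟩ := h4
    have h3 : q + 1 = 2 ^ 1 * (2 * k + 1) := by omega
    rw [h3, padicValNat.mul (by norm_num) (by omega), padicValNat.prime_pow, padicValNat.eq_zero_of_not_dvd (by omega)]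
  rw [h2, padicValNat.mul (by norm_num) (by omega), padicValNat.self (by norm_num)] at h1
  omega

theorem padic_prod {q : ℕ} (hq : 1 < q) (h4 : 4 ∣ q - 1) (m : ℕ) :
    padicValNat 2 (∏ i ∈ Finset.range m, (q ^ (2 * (i + 1)) - 1)) =
      m * (padicValNat 2 (q - 1) + 1) + padicValNat 2 (Nat.factorial m) := by
  have hpos : ∀ i, q ^ (2 * (i + 1)) - 1 ≠ 0 := fun i => by
    have : 1 < q ^ (2 * (i + 1)) := Nat.one_lt_pow (by omega) hq
    omega
  induction m with
  | zero => simp
  | succ m ih =>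
    rw [Finset.prod_range_succ, padicValNat.mul (Finset.prod_ne_zero_iff.2 fun i _ => hpos i) (hpos m), ih,
      padic_factor hq h4, Nat.factorial_succ, padicValNat.mul (by omega) (Nat.factorial_ne_zero m)]
    ring

theorem not_two_dvd_index_NM [Fintype F] (h4 : 4 ∣ Fintype.card F - 1) : ¬ 2 ∣ (NM m F).index := by
  have hq1 : 1 < Fintype.card F := Fintype.one_lt_card
  have hq : 4 ≤ Fintype.card F := by omega
  have h1 := (NM m F).card_mul_index
  have hpos : ∀ i, Fintype.card F ^ (2 * (i + 1)) - 1 ≠ 0 := fun i => by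
    have : 1 < Fintype.card F ^ (2 * (i + 1)) := Nat.one_lt_pow (by omega) hq1
    omega
  have hpow : ∀ (a : ℕ) {n : ℕ}, a ≠ 0 → padicValNat 2 (a ^ n) = n * padicValNat 2 a := fun a n ha => by
    rw [padicValNat.pow a n]
  rw [card_NM hq, S0245.result rfl m] at h1
  have h2 := congrArg (padicValNat 2) h1
  have hidx : (NM m F).index ≠ 0 := by
    intro h0
    rw [h0, mul_zero] at h1
    have h3 : (Fintype.card F) ^ (m ^ 2) * ∏ i ∈ Finset.range m, (Fintype.card F ^ (2 * (i + 1)) - 1) ≠ 0 :=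
      mul_ne_zero (pow_ne_zero _ (by omega)) (Finset.prod_ne_zero_iff.2 fun i _ => hpos i)
    exact h3 h1.symm
  rw [padicValNat.mul (mul_ne_zero (mul_ne_zero (by positivity) (Nat.factorial_ne_zero m)) (pow_ne_zero _ (by omega)))
    hidx, padicValNat.mul (mul_ne_zero (by positivity) (Nat.factorial_ne_zero m)) (pow_ne_zero _ (by omega)),
    padicValNat.mul (by positivity) (Nat.factorial_ne_zero m), padicValNat.prime_pow,
    padicValNat.mul (pow_ne_zero _ (by omega)) (Finset.prod_ne_zero_iff.2 fun i _ => hpos i),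
    padic_prod hq1 h4, hpow _ (by omega), hpow (Fintype.card F) (by omega),
    padicValNat.eq_zero_of_not_dvd (n := Fintype.card F) (by omega)] at h2
  intro h
  have h3 : 1 ≤ padicValNat 2 (NM m F).index := by
    have : Fact (Nat.Prime 2) := ⟨Nat.prime_two⟩
    exact one_le_padicValNat_of_dvd hidx h
  nlinarith

/-! ### The group `PSp` -/

/-- the image in `PSp` -/
def PN (m : ℕ) (F : Type u) [Field F] : Subgroup (PSp m F) :=
  (NM m F).map (QuotientGroup.mk' (Subgroup.center (Matrix.symplecticGroup (Fin m) F)))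

theorem not_two_dvd_index [Fintype F] (h4 : 4 ∣ Fintype.card F - 1) : ¬ 2 ∣ (PN m F).index := by
  intro h
  refine not_two_dvd_index_NM (m := m) h4 (h.trans ?_)
  exact Subgroup.index_map_dvd (NM m F) (QuotientGroup.mk'_surjective _)

section hom

variable [Finite F] (hF : 3 < Nat.card F)

/-- the projection -/
noncomputable def pr : NM m F →* PN m F :=
  (QuotientGroup.mk' (Subgroup.center (Matrix.symplecticGroup (Fin m) F))).subgroupMap (NM m F)

theorem pr_surjective : Function.Surjective (pr (m := m) (F := F)) := MonoidHom.subgroupMap_surjective _ _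

theorem f0_of_center {A : NM m F} (hA : A.1 ∈ Subgroup.center (Matrix.symplecticGroup (Fin m) F)) :
    f0 hF A = 1 := by
  obtain ⟨a, ha⟩ := (LieClassical.SympCenter.mem_center_iff m A.1).1 hA
  have h1 : ∀ i, pm (dat hF A).1 (dat hF A).2.1 i = i := by
    intro i
    have h2 := monS_mulVec (dat hF A) i
    rw [monS_dat, ha, Matrix.smul_mulVec, Matrix.one_mulVec] at h2
    by_contra hne
    have h3 := congrFun h2 (pm (dat hF A).1 (dat hF A).2.1 i)
    simp [hne] at h3
    exact (Units.ne_zero _) h3.symm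
  have h2 : ∀ i, (dat hF A).1 i = i ∧ (dat hF A).2.1 i = false := by
    intro i
    have h3 := h1 (Sum.inl i)
    rcases ha : (dat hF A).2.1 i with _ | _
    · simp only [pm, Sum.elim_inl, ha, Bool.false_eq_true, if_false, Sum.inl.injEq] at h3
      exact ⟨h3, rfl⟩
    · simp [pm, ha] at h3
  have h3 : (dat hF A).1 = 1 := Equiv.ext fun i => (h2 i).1
  have h4 : sb (dat hF A).2.1 = 1 := Finset.prod_eq_one fun i _ => by rw [(h2 i).2]; rfl
  rw [f0_apply hF (monS_dat hF A), h3, h4, Equiv.Perm.sign_one]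
  rfl

theorem ker_le : (pr (m := m) (F := F)).ker ≤ (f0 (m := m) hF).ker := by
  intro A hA
  rw [MonoidHom.mem_ker] at hA ⊢
  apply f0_of_center hF
  have h1 : (QuotientGroup.mk' (Subgroup.center (Matrix.symplecticGroup (Fin m) F))) A.1 = 1 :=
    congrArg Subtype.val hA
  exact (QuotientGroup.eq_one_iff A.1).1 h1

/-- **The homomorphism** -/
noncomputable def fhom : PN m F →* ℤˣ × ℤˣ :=
  (pr (m := m) (F := F)).liftOfSurjective pr_surjective ⟨f0 hF, ker_le hF⟩

theorem fhom_pr (A : NM m F) : fhom hF (pr A) = f0 hF A :=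
  (pr (m := m) (F := F)).liftOfRightInverse_comp_apply _ _ ⟨f0 hF, ker_le hF⟩ A

theorem fhom_surjective (hm : 2 ≤ m) : Function.Surjective (fhom (m := m) hF) := by
  classical
  have key : ∀ (x : Dt m F), ∃ k, fhom hF k = (Equiv.Perm.sign x.1, sb x.2.1) := fun x =>
    ⟨pr ⟨monS x, monS_mem_normalizer x⟩, by rw [fhom_pr, f0_apply hF rfl]⟩
  have h0 : sb (fun _ : Fin m => false) = 1 := Finset.prod_eq_one fun i _ => rfl
  have h1 : sb (fun i : Fin m => decide (i = ⟨0, by omega⟩)) = -1 := by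
    unfold sb
    rw [Finset.prod_eq_single (⟨0, by omega⟩ : Fin m)]
    · simp
    · intro i _ hi
      simp [hi]
    · simp
  have h2 : Equiv.Perm.sign (Equiv.swap (⟨0, by omega⟩ : Fin m) ⟨1, by omega⟩) = -1 :=
    Equiv.Perm.sign_swap (by simp [Fin.ext_iff])
  rintro ⟨a, b⟩
  have ha : ∃ σ : Equiv.Perm (Fin m), Equiv.Perm.sign σ = a := by
    rcases Int.units_eq_one_or a with rfl | rfl
    · exact ⟨1, Equiv.Perm.sign_one⟩
    · exact ⟨_, h2⟩
  have hb : ∃ ε : Fin m → Bool, sb ε = b := by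
    rcases Int.units_eq_one_or b with rfl | rfl
    · exact ⟨_, h0⟩
    · exact ⟨_, h1⟩
  obtain ⟨σ, rfl⟩ := ha
  obtain ⟨ε, rfl⟩ := hb
  exact key ⟨σ, ε, fun _ => 1⟩

end hom

end Cfsg.Agent.H581.K547.SpMon
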